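import Groth.Agent.Lib.RegLoc.Unramified
import Groth.Agent.Lib.RegLoc.Quotient
import Groth.Agent.Lib.Compl.Noetherian
import Mathlib.RingTheory.PowerSeries.Inverse
import Mathlib.RingTheory.MvPowerSeries.Equiv
import Mathlib.RingTheory.AdicCompletion.AsTensorProduct

/-!
Regularity of power series rings and completions of regular rings.
-/

set_option autoImplicit false
set_option linter.style.haveILetI false

universe u

open IsLocalRing

namespace Groth.Agent.RegCpl3

theorem isRegularRing_of_maximal {R : Type u} [CommRing R] [IsNoetherianRing R]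
    (h : ∀ (M : Ideal R) [M.IsMaximal], IsRegularLocalRing (Localization.AtPrime M)) : IsRegularRing R := by
  refine isRegularRing_iff.2 fun P hP => ?_
  obtain ⟨M, hM, hPM⟩ := Ideal.exists_le_maximal P hP.ne_top
  haveI := h M
  let P' : Ideal (Localization.AtPrime M) := P.map (algebraMap R _)
  have hd : Disjoint (M.primeCompl : Set R) P := by
    rw [Set.disjoint_left]
    exact fun x hx hxP => hx (hPM hxP)
  haveI : P'.IsPrime := IsLocalization.isPrime_of_isPrime_disjoint M.primeCompl _ P hP hd
  haveI := RegLoc.isRegularLocalRing_localization (Localization.AtPrime M) P'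
  have hcomap : P'.comap (algebraMap R (Localization.AtPrime M)) = P :=
    IsLocalization.under_map_of_isPrime_disjoint M.primeCompl _ hP hd
  haveI : IsLocalization.AtPrime (Localization.AtPrime P') P := by
    have := IsLocalization.isLocalization_isLocalization_atPrime_isLocalization (R := R) M.primeCompl
      (S := Localization.AtPrime M) (Localization.AtPrime P') P'
    change IsLocalization P.primeCompl _
    convert this using 1
    ext a
    change a ∉ P ↔ a ∉ P'.comap _
    rw [hcomap]
  exact IsRegularLocalRing.of_ringEquiv
    (IsLocalization.algEquiv P.primeCompl (Localization.AtPrime P') (Localization.AtPrime P)).toRingEquiv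

/-- A ring is regular if it is so modulo a non-zero-divisor of its radical. -/
theorem isRegularRing_of_quotient {R : Type u} [CommRing R] [IsNoetherianRing R] (x : R)
    (hx : x ∈ nonZeroDivisors R) (hj : x ∈ Ring.jacobson R) [IsRegularRing (R ⧸ Ideal.span {x})] :
    IsRegularRing R := by
  refine isRegularRing_of_maximal fun M _ => ?_
  have hxM : x ∈ M := Ring.jacobson_le_of_isMaximal M hj
  have hle : Ideal.span {x} ≤ M := (Ideal.span_singleton_le_iff_mem _).2 hxM
  let M' : Ideal (R ⧸ Ideal.span {x}) := M.map (Ideal.Quotient.mk _)
  have hM' : M'.comap (Ideal.Quotient.mk (Ideal.span {x})) = M := by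
    rw [Ideal.comap_map_of_surjective _ Ideal.Quotient.mk_surjective, ← RingHom.ker, Ideal.mk_ker, sup_eq_left]
    exact hle
  haveI : M'.IsPrime := Ideal.map_isPrime_of_surjective Ideal.Quotient.mk_surjective (by rw [Ideal.mk_ker]; exact hle)
  have key : ∀ (q : Ideal R) [q.IsPrime], q = M'.comap (Ideal.Quotient.mk (Ideal.span {x})) → x ∈ q →
      IsRegularLocalRing (Localization.AtPrime q) := by
    rintro q _ rfl hxq
    let Rq := Localization.AtPrime (M'.comap (Ideal.Quotient.mk (Ideal.span {x})))
    haveI : IsRegularLocalRing (Localization.AtPrime M') := IsRegularRing.isRegularLocalRing_localization M'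
    haveI : IsNoetherianRing Rq := IsLocalization.isNoetherianRing (M'.comap (Ideal.Quotient.mk (Ideal.span {x}))).primeCompl _ inferInstance
    haveI : IsRegularLocalRing (Rq ⧸ Ideal.span {algebraMap R Rq x}) := by
      have e := (RegLoc.localizationQuotientEquiv (Ideal.span {x}) M').symm
      haveI := IsRegularLocalRing.of_ringEquiv e
      exact IsRegularLocalRing.of_ringEquiv (Ideal.quotEquivOfEq
        (show (Ideal.span {x}).map (algebraMap R Rq) = Ideal.span {algebraMap R Rq x} by rw [Ideal.map_span, Set.image_singleton]))
    refine RegLoc.of_quotient_span_singleton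
      ((IsLocalization.AtPrime.to_map_mem_maximal_iff Rq _ x).2 hxq) ?_
    exact IsLocalization.map_nonZeroDivisors_le (M'.comap (Ideal.Quotient.mk (Ideal.span {x}))).primeCompl Rq
      ⟨x, hx, rfl⟩
  exact key M hM'.symm hxM

theorem isRegularRing_powerSeries (A : Type u) [CommRing A] [IsRegularRing A] :
    IsRegularRing (PowerSeries A) := by
  have hk : RingHom.ker (PowerSeries.constantCoeff (R := A)) = Ideal.span {PowerSeries.X} := by
    refine Ideal.ext fun f => ?_
    rw [RingHom.mem_ker, Ideal.mem_span_singleton, PowerSeries.X_dvd_iff]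
  have hs : Function.Surjective (PowerSeries.constantCoeff (R := A)) := fun a =>
    ⟨PowerSeries.C a, PowerSeries.constantCoeff_C a⟩
  haveI : IsRegularRing (PowerSeries A ⧸ Ideal.span {(PowerSeries.X : PowerSeries A)}) :=
    IsRegularRing.of_ringEquiv ((Ideal.quotEquivOfEq hk.symm).trans (RingHom.quotientKerEquivOfSurjective hs)).symm
  refine isRegularRing_of_quotient PowerSeries.X (mem_nonZeroDivisors_iff_right.2 fun f hf => ?_) ?_
  · exact PowerSeries.ext fun n => by
      have h := congrArg (PowerSeries.coeff (n + 1)) hf
      rwa [PowerSeries.coeff_succ_mul_X, map_zero] at h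
  · rw [← Ideal.jacobson_bot, Ideal.mem_jacobson_bot]
    intro y
    rw [PowerSeries.isUnit_iff_constantCoeff]
    simp

theorem isRegularRing_mvPowerSeries (A : Type u) [CommRing A] [IsRegularRing A] : ∀ n : ℕ,
    IsRegularRing (MvPowerSeries (Fin n) A)
  | 0 => IsRegularRing.of_ringEquiv (MvPowerSeries.isEmptyEquiv (σ := Fin 0) (R := A)).symm.toRingEquiv
  | n + 1 => by
    have := isRegularRing_mvPowerSeries A n
    have := isRegularRing_powerSeries (MvPowerSeries (Fin n) A)
    exact IsRegularRing.of_ringEquiv (MvPowerSeries.finSuccEquiv A n).symm.toRingEquiv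

/-- A flat algebra with the same quotient by an ideal in its radical is regular if the base is. -/
theorem isRegularRing_of_flat_of_dense {A C : Type u} [CommRing A] [IsRegularRing A] [CommRing C]
    [IsNoetherianRing C] [Algebra A C] [Module.Flat A C] (J : Ideal A)
    (hJ : J.map (algebraMap A C) ≤ Ring.jacobson C)
    (hdec : ∀ y : C, ∃ a : A, y - algebraMap A C a ∈ J.map (algebraMap A C)) : IsRegularRing C := by
  refine isRegularRing_of_maximal fun M hM => ?_
  have hJM : J.map (algebraMap A C) ≤ M := hJ.trans (Ring.jacobson_le_of_isMaximal M)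
  let m : Ideal A := M.comap (algebraMap A C)
  haveI : m.IsPrime := Ideal.comap_isPrime _ _
  have hJm : J.map (algebraMap A C) ≤ m.map (algebraMap A C) :=
    Ideal.map_mono (Ideal.map_le_iff_le_comap.1 hJM)
  have hmap : m.map (algebraMap A C) = M := by
    refine le_antisymm Ideal.map_comap_le fun y hy => ?_
    obtain ⟨a, ha⟩ := hdec y
    have ham : a ∈ m := by
      show algebraMap A C a ∈ M
      have := sub_mem hy (hJM ha)
      rwa [sub_sub_cancel] at this
    have := add_mem (hJm ha) (Ideal.mem_map_of_mem (algebraMap A C) ham)
    rwa [sub_add_cancel] at this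
  let φ := Localization.localRingHom m M (algebraMap A C) rfl
  letI : Algebra (Localization.AtPrime m) (Localization.AtPrime M) := φ.toAlgebra
  haveI : IsLocalHom (algebraMap (Localization.AtPrime m) (Localization.AtPrime M)) :=
    Localization.isLocalHom_localRingHom m M (algebraMap A C) rfl
  haveI : IsScalarTower A (Localization.AtPrime m) (Localization.AtPrime M) :=
    IsScalarTower.of_algebraMap_eq fun a => by
      rw [IsScalarTower.algebraMap_apply A C (Localization.AtPrime M)]
      exact (Localization.localRingHom_to_map m M (algebraMap A C) rfl a).symm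
  haveI : Module.Flat A (Localization.AtPrime M) := .trans A C _
  haveI : Module.Flat (Localization.AtPrime m) (Localization.AtPrime M) :=
    (Module.flat_iff_of_isLocalization (Localization.AtPrime m) m.primeCompl _).2 inferInstance
  haveI : IsRegularLocalRing (Localization.AtPrime m) := IsRegularRing.isRegularLocalRing_localization m
  haveI : IsNoetherianRing (Localization.AtPrime M) := IsLocalization.isNoetherianRing M.primeCompl _ inferInstance
  refine (RegLoc.isRegularLocalRing_iff_of_map_maximalIdeal ?_).1 ‹_›
  rw [← Localization.AtPrime.map_eq_maximalIdeal, Ideal.map_map, ← IsScalarTower.algebraMap_eq,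
    IsScalarTower.algebraMap_eq A C (Localization.AtPrime M), ← Ideal.map_map, hmap,
    Localization.AtPrime.map_eq_maximalIdeal]

theorem adicCompletion_data {A : Type u} [CommRing A] (J : Ideal A) (hJ : J.FG) :
    J.map (algebraMap A (AdicCompletion J A)) ≤ Ring.jacobson (AdicCompletion J A) ∧
    ∀ y : AdicCompletion J A, ∃ a : A, y - algebraMap A _ a ∈ J.map (algebraMap A (AdicCompletion J A)) := by
  haveI := AdicCompletion.isAdicComplete_self J hJ
  refine ⟨(IsAdicComplete.le_jacobson_bot _).trans Ideal.jacobson_bot.le, fun y => ?_⟩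
  obtain ⟨a, ha⟩ := Ideal.Quotient.mk_surjective (AdicCompletion.evalOneₐ J y)
  refine ⟨a, (AdicCompletion.ker_evalOneₐ_eq_map J hJ).le ?_⟩
  change AdicCompletion.evalOneₐ J (y - algebraMap A _ a) = 0
  rw [map_sub, AlgHom.commutes, ← ha]
  exact sub_self _

theorem isRegularRing_adicCompletion (A : Type u) [CommRing A] [IsRegularRing A] (J : Ideal A) :
    IsRegularRing (AdicCompletion J A) :=
  haveI := Compl.isNoetherianRing_adicCompletion J (IsNoetherian.noetherian J)
  haveI := AdicCompletion.flat_of_isNoetherian (R := A) J
  isRegularRing_of_flat_of_dense J (adicCompletion_data J (IsNoetherian.noetherian J)).1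
    (adicCompletion_data J (IsNoetherian.noetherian J)).2

end Groth.Agent.RegCpl3
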