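import Groth.Agent.Lib.RegCpl3.Basic

/-!
Localisations of regular rings are regular.
-/

set_option autoImplicit false
set_option linter.style.haveILetI false

universe u

namespace Groth.Agent.RegCpl3

theorem isRegularRing_localization {R : Type u} [CommRing R] [IsRegularRing R] (T : Submonoid R) :
    IsRegularRing (Localization T) := by
  haveI : IsNoetherianRing (Localization T) := IsLocalization.isNoetherianRing T _ inferInstance
  refine isRegularRing_iff.2 fun Q hQ => ?_
  let p := Q.comap (algebraMap R (Localization T))
  haveI : p.IsPrime := Ideal.comap_isPrime _ _
  haveI : IsRegularLocalRing (Localization.AtPrime p) := IsRegularRing.isRegularLocalRing_localization p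
  haveI : IsLocalization.AtPrime (Localization.AtPrime Q) p :=
    IsLocalization.isLocalization_isLocalization_atPrime_isLocalization (R := R) T
      (S := Localization T) (Localization.AtPrime Q) Q
  exact IsRegularLocalRing.of_ringEquiv
    (IsLocalization.algEquiv p.primeCompl (Localization.AtPrime p) (Localization.AtPrime Q)).toRingEquiv

end Groth.Agent.RegCpl3
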